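import Groth.Agent.Etbc.H238.GenStk
import Groth.Agent.Etcore.RpushLoc
import Groth.Agent.CurvesA.InvAffine
import Groth.Agent.S0236
import Groth.Agent.EtpbcA.CdLeray
import Groth.Agent.Dix.KSheaf
import Groth.Agent.Sga4h.EtaleRes2
import Mathlib.AlgebraicGeometry.Noetherian

/-!
# `R¹ j_* G_m = 0` for `j : Spec O_{X,η} ⟶ X`, `η` a generic point of a locally Noetherian scheme

* `subsingleton_H1_Gm`: `H¹(P, G_m) = 0` for a finite discrete scheme `P`.
* `isZero_Rpush_one`.
-/

set_option autoImplicit false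
universe u

open CategoryTheory CategoryTheory.Limits AlgebraicGeometry Opposite TopologicalSpace

namespace Groth.Agent.Etbc.H238.HilbStk

section Pic

open Groth.Agent.Ega4dA.GenSec Groth.Agent.CurvesA.InvAffine

theorem subsingleton_H1_Gm (P : Scheme.{u}) [Finite P] [DiscreteTopology P] :
    Subsingleton (EtCoh.H P (EtCoh.Gm P) 1) := by
  rw [Groth.Agent.S0236.result]
  intro L hL
  rw [isInvertible_iff] at hL
  rw [nonempty_iso_iff]
  have hA : IsAffine P := inferInstance
  obtain ⟨s, hs⟩ := exists_section_of_finite L (isAffineOpen_top P) (fun x _ => hL x)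
    (Set.finite_univ (α := P)).toFinset (fun x _ => trivial)
  exact ⟨s, isGen_of_cover fun x _ => by
    obtain ⟨V, h, hx, hV⟩ := hs x (by simp)
    exact ⟨V, h, hx, hV⟩⟩

end Pic

open Groth.Agent.Dix.GmPush Groth.Agent.Dix.GenUnits Groth.Agent.Etcore.HQ Groth.Agent.Etcore.RpushLoc

variable {X : Scheme.{u}}

/-- `V ×_X Spec O_{X,η}` is finite and discrete for `V` affine étale over the locally Noetherian scheme `X`. -/
theorem finite_discrete [IsLocallyNoetherian X] (η : X) (hη : ∀ z, z ⤳ η → z = η) (V : X.Etale)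
    [IsAffine V.left] :
    Finite ((EtCoh.bc (X.fromSpecStalk η)).obj V).left ∧
      DiscreteTopology ((EtCoh.bc (X.fromSpecStalk η)).obj V).left := by
  have : Etale V.hom := V.prop
  have hN := isLocallyNoetherian_left V
  have hN' : IsNoetherian V.left := { }
  let p := proj (X.fromSpecStalk η) V
  have hemb := (GenStk.isPreimmersion_proj η V).isEmbedding
  have hgen : ∀ w, ∀ z, z ⤳ p w → z = p w := fun w =>
    Groth.Agent.CurvesB.DimOneEtale.generic_of_generic' V.hom (w := p w)
      (by rw [GenStk.hom_proj_apply η hη V w]; exact hη)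
  have hfin : Finite ((EtCoh.bc (X.fromSpecStalk η)).obj V).left := by
    refine Set.finite_univ_iff.1 (Set.Finite.of_finite_image (f := p) ?_ hemb.injective.injOn)
    have h1 : (genericPoints V.left).Finite := genericPoints.finite NoetherianSpace.finite_irreducibleComponents
    refine h1.subset ?_
    rintro _ ⟨w, -, rfl⟩
    exact (Groth.Agent.Dix.KSheaf.isGen_iff _).2 (hgen w)
  refine ⟨hfin, ?_⟩
  have hT1 : T1Space ((EtCoh.bc (X.fromSpecStalk η)).obj V).left := by
    refine t1Space_iff_specializes_imp_eq.2 fun a b hab => ?_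
    exact hemb.injective (hgen b _ (hab.map p.continuous))
  infer_instance

/-- **`R¹ j_* G_m = 0`**. -/
theorem isZero_Rpush_one [IsLocallyNoetherian X] (η : X) (hη : ∀ z, z ⤳ η → z = η) :
    IsZero ((EtCoh.Rpush (X.fromSpecStalk η) 1).obj (EtCoh.Gm (Spec (X.presheaf.stalk η)))) := by
  rw [isZero_Rpush_iff]
  intro V ξ v
  obtain ⟨W, hW, hvW, -⟩ := exists_isAffineOpen_mem_and_subset (X := V.left) (x := v) (U := ⊤) trivial
  have : Etale V.hom := V.prop
  let V' : X.Etale := Scheme.Etale.mk (W.ι ≫ V.hom)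
  let g : V' ⟶ V := MorphismProperty.Over.homMk W.ι rfl
  have hA : IsAffine V'.left := hW
  refine ⟨V', g, ⟨v, hvW⟩, rfl, ?_⟩
  obtain ⟨h1, h2⟩ := finite_discrete η hη V'
  have h3 := subsingleton_H1_Gm ((EtCoh.bc (X.fromSpecStalk η)).obj V').left
  let e : (EtCoh.pull (pr (X.fromSpecStalk η) V')).obj (EtCoh.Gm _) ≅ EtCoh.Gm _ :=
    Groth.Agent.Sga4h.EtaleRes2.pullGm (pr (X.fromSpecStalk η) V')
  have h4 : Subsingleton (HQ (EtCoh.Gm (Spec (X.presheaf.stalk η))) (pr (X.fromSpecStalk η) V') 1) :=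
    Groth.Agent.EtpbcA.CdLeray.subsingleton_ext_of_iso _ e.symm 1 h3
  exact Subsingleton.elim _ _

end Groth.Agent.Etbc.H238.HilbStk
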