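import Groth.Agent.Etbc.H238.GenStk
import Groth.Agent.Dix.KSheaf
import Groth.Agent.EtpbcA.ArtinSupp
import Groth.Agent.Dix.PointExact

/-!
# The sheaf `K = ∏_η j_{η*} G_m` with `j_η : Spec O_{X,η} ⟶ X`, `η` generic

`X` Noetherian (not necessarily reduced). The map `d : G_m ⟶ K` is an isomorphism at the generic points:
* `not_mem_supp_kernel`, `not_mem_supp_cokernel`.
-/

set_option autoImplicit false
universe u

open CategoryTheory CategoryTheory.Limits AlgebraicGeometry Opposite TopologicalSpace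

namespace Groth.Agent.Etbc.H238.KStk

open Groth.Agent.Dix.KSheaf Groth.Agent.Dix.GmPush Groth.Agent.Dix.GenUnits

/-- The factors of `K`. -/
noncomputable abbrev facS (X : Scheme.{u}) (η : genericPoints X) : EtCoh.Ab X :=
  (EtCoh.push (X.fromSpecStalk η.1)).obj (EtCoh.Gm (Spec (X.presheaf.stalk η.1)))

theorem hasProduct_facS (X : Scheme.{u}) [IsNoetherian X] : HasProduct (facS X) := inferInstance

/-- The sheaf `K = ∏_η j_{η*} G_m`. -/
noncomputable def KS (X : Scheme.{u}) [IsNoetherian X] : EtCoh.Ab X :=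
  haveI := hasProduct_facS X
  ∏ᶜ (facS X)

/-- The projections. -/
noncomputable def πS (X : Scheme.{u}) [IsNoetherian X] (η : genericPoints X) : KS X ⟶ facS X η :=
  haveI := hasProduct_facS X
  Pi.π (facS X) η

/-- The map `G_m ⟶ K`. -/
noncomputable def dS (X : Scheme.{u}) [IsNoetherian X] : EtCoh.Gm X ⟶ KS X :=
  haveI := hasProduct_facS X
  Pi.lift (fun η => gmToPush (X.fromSpecStalk η.1))

theorem dS_πS (X : Scheme.{u}) [IsNoetherian X] (η : genericPoints X) :
    dS X ≫ πS X η = gmToPush (X.fromSpecStalk η.1) := by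
  haveI := hasProduct_facS X
  exact Pi.lift_π _ _

theorem KS_ext (X : Scheme.{u}) [IsNoetherian X] (U : X.Etale) (s t : EtCoh.sect (KS X) U)
    (h : ∀ η, (πS X η).hom.app (op U) s = (πS X η).hom.app (op U) t) : s = t := by
  haveI := hasProduct_facS X
  exact pi_ext (facS X) U s t h

variable (X : Scheme.{u}) [IsNoetherian X]

/-- Near a generic point every section of `K` comes from `G_m`. -/
theorem exists_lift_KS (U : X.Etale) (u : U.left) (hu : ∀ z, z ⤳ u → z = u) (k : EtCoh.sect (KS X) U) :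
    ∃ (V : X.Etale) (g : V ⟶ U) (v : V.left), IsOpenImmersion g.left ∧ g.left v = u ∧
      ∃ t : EtCoh.sect (EtCoh.Gm X) V, (dS X).hom.app (op V) t = (KS X).obj.map g.op k := by
  classical
  obtain ⟨V, g, v, hg, hv, t, ht⟩ := GenStk.exists_lift U u hu
    (fun η => if h : η ∈ genericPoints X then (πS X ⟨η, h⟩).hom.app (op U) k else 0)
  refine ⟨V, g, v, hg, hv, t, KS_ext X V _ _ fun η => ?_⟩
  have h1 := ht η.1 ((isGen_iff η.1).1 η.2)
  rw [dif_pos η.2] at h1
  have h2 : (πS X η).hom.app (op V) ((dS X).hom.app (op V) t) = (dS X ≫ πS X η).hom.app (op V) t := rfl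
  rw [h2, dS_πS, h1]
  exact (congr($((πS X η).hom.naturality g.op) k)).symm

theorem not_mem_supp_kernel (x : X) (hx : ∀ z, z ⤳ x → z = x) : x ∉ EtPBC.supp (kernel (dS X)) := by
  rw [EtpbcA.Artin.not_mem_supp_iff]
  intro U s v hv
  let s' : EtCoh.sect (EtCoh.Gm X) U := (kernel.ι (dS X)).hom.app (op U) s
  have h0 : (dS X).hom.app (op U) s' = 0 := by
    have := congrArg (fun f => f.hom.app (op U) s) (kernel.condition (dS X))
    exact this
  have h1 : (gmToPush (X.fromSpecStalk (U.hom v))).hom.app (op U) s' = 0 := by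
    have hgen : U.hom v ∈ genericPoints X := by
      rw [isGen_iff, hv]
      exact hx
    have h2 : (dS X ≫ πS X ⟨_, hgen⟩).hom.app (op U) s' = 0 := by
      change (πS X ⟨_, hgen⟩).hom.app (op U) ((dS X).hom.app (op U) s') = 0
      rw [h0, map_zero]
    rw [dS_πS] at h2
    exact h2
  obtain ⟨V, g, hw, hg⟩ := GenStk.exists_zero U v s' h1
  refine ⟨V, g, hw, ?_⟩
  apply Groth.Agent.Dix.PointExact.sect_injective_of_mono (kernel.ι (dS X)) V
  rw [map_zero]
  exact (congr($((kernel.ι (dS X)).hom.naturality g.op) s)).trans hg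

theorem not_mem_supp_cokernel (x : X) (hx : ∀ z, z ⤳ x → z = x) : x ∉ EtPBC.supp (cokernel (dS X)) := by
  rw [EtpbcA.Artin.not_mem_supp_iff]
  intro U s u hu
  obtain ⟨V, g, ⟨v, hv⟩, k, hk⟩ :=
    (Groth.Agent.Dix.EtaleSieve.epi_iff (cokernel.π (dS X))).1 inferInstance U s u
  have : Etale V.hom := V.prop
  have hV : V.hom v = x := by
    have h2 : g.left ≫ U.hom = V.hom := Over.w g.hom
    rw [← h2, Scheme.Hom.comp_apply, hv, hu]
  have hv' : ∀ z, z ⤳ v → z = v :=
    Groth.Agent.CurvesB.DimOneEtale.generic_of_generic' V.hom (w := v) (by rw [hV]; exact hx)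
  obtain ⟨W, g', w, -, hw, t, ht⟩ := exists_lift_KS X V v hv' k
  refine ⟨W, g' ≫ g, ⟨w, ?_⟩, ?_⟩
  · change (g'.left ≫ g.left) w = u
    rw [Scheme.Hom.comp_apply, hw, hv]
  · rw [op_comp, (cokernel (dS X)).obj.map_comp]
    change (cokernel (dS X)).obj.map g'.op ((cokernel (dS X)).obj.map g.op s) = 0
    rw [← hk]
    have h1 : (cokernel (dS X)).obj.map g'.op ((cokernel.π (dS X)).hom.app (op V) k) =
        (cokernel.π (dS X)).hom.app (op W) ((KS X).obj.map g'.op k) :=
      (congr($((cokernel.π (dS X)).hom.naturality g'.op) k)).symm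
    rw [h1, ← ht]
    exact congrArg (fun f => f.hom.app (op W) t) (cokernel.condition (dS X))

end Groth.Agent.Etbc.H238.KStk
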