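import Groth.Agent.S0642
import Groth.Agent.S0101
import Groth.Agent.Etbc.H211.PrimTors

/-!
# `ℓ`-cohomological dimension of the local ring at a generic point
-/

set_option autoImplicit false
universe u

open CategoryTheory CategoryTheory.Limits AlgebraicGeometry Opposite TopologicalSpace

namespace Groth.Agent.Etbc.H238.NilCd

/-- Invariance of the `ℓ`-cohomological dimension under universal homeomorphisms. -/
theorem cohDimLEAt_of_uhomeo {X₀ X : Scheme.{u}} (i : X₀ ⟶ X) [IsIntegralHom i]
    [UniversallyInjective i] [Surjective i] (ℓ d : ℕ) (h : _root_.Dix.CohDimLEAt X₀ ℓ d) :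
    _root_.Dix.CohDimLEAt X ℓ d := by
  intro F hF q hq
  have : PreservesFiniteLimits (EtCoh.pull i) := Groth.Agent.S0101.result i
  have h1 := h ((EtCoh.pull i).obj F) (Groth.Agent.Etbc.H211.PrimTors.isPrimaryTorsion_pull ℓ i F hF) q hq
  exact (Groth.Agent.S0642.result i F q).1.subsingleton

theorem subsingleton_spec_stalk {X : Scheme.{u}} (η : X) (hη : ∀ z, z ⤳ η → z = η) :
    Subsingleton (Spec (X.presheaf.stalk η)) := by
  refine ⟨fun a b => (X.fromSpecStalk η).isEmbedding.injective ?_⟩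
  have h : ∀ c, X.fromSpecStalk η c = η := fun c => hη _ (by
    have h2 : X.fromSpecStalk η c ∈ Set.range (X.fromSpecStalk η) := ⟨_, rfl⟩
    rw [X.range_fromSpecStalk] at h2
    exact h2)
  rw [h a, h b]

/-- `cd_ℓ(Spec O_{X,η}) ≤ cd_ℓ(κ(η))` for a generic point `η`. -/
theorem cohDimLEAt_stalk {X : Scheme.{u}} (η : X) (hη : ∀ z, z ⤳ η → z = η) (ℓ d : ℕ)
    (h : _root_.Dix.CohDimLEAt (Spec (X.residueField η)) ℓ d) :
    _root_.Dix.CohDimLEAt (Spec (X.presheaf.stalk η)) ℓ d := by
  have hs := subsingleton_spec_stalk η hη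
  let i : Spec (X.residueField η) ⟶ Spec (X.presheaf.stalk η) := Spec.map (X.residue η)
  have hc : IsClosedImmersion i := IsClosedImmersion.spec_of_surjective _ (X.residue_surjective η)
  have hsu : Surjective i := ⟨fun y => ⟨default, Subsingleton.elim _ _⟩⟩
  exact cohDimLEAt_of_uhomeo i ℓ d h

end Groth.Agent.Etbc.H238.NilCd
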