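import Groth.Agent.EtpbcB.EdgeEt

/-!
# Injectivity of the Leray edge map in degrees one and two

`L ⊣ R`, `L` exact. The edge map `Ext^n(A, R N) → Ext^n(L A, N)` is injective for `n = 1`, and for `n = 2` if
`R¹R (N) = 0`. Étale version: `edgeH_two_injective`.
-/

set_option autoImplicit false

universe w w' v v' u u'

open CategoryTheory CategoryTheory.Limits CategoryTheory.Abelian

namespace Groth.Agent.Etbc.H238.EdgeInj

open Groth.Agent.EtpbcB.EdgeLemma

section abstract

variable {C : Type u} [Category.{v} C] [Abelian C] [HasExt.{w} C]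
variable {D : Type u'} [Category.{v'} D] [Abelian D] [HasExt.{w'} D]
variable {L : C ⥤ D} {R : D ⥤ C} [L.Additive] [PreservesFiniteLimits L] [PreservesFiniteColimits L]
variable (adj : L ⊣ R) [R.Additive] [PreservesFiniteLimits R]

/-- `Ext¹(A, R N) → Ext¹(L A, N)` is injective. -/
theorem edge_one_injective [EnoughInjectives D] (A : C) (N : D) :
    Function.Injective (edge adj A N 1) := by
  rw [injective_iff_map_eq_zero]
  intro x hx
  let I : InjectivePresentation N := Classical.arbitrary _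
  let S := ShortComplex.mk _ _ (cokernel.condition I.f)
  have hI : Injective S.X₂ := I.injective
  have hS : S.ShortExact := { exact := ShortComplex.exact_cokernel I.f }
  have hRI := injective_R adj S.X₂
  obtain ⟨e, rfl⟩ := Ext.covariant_sequence_exact₁ A (shortExact_T (R := R) hS) x
    (Ext.eq_zero_of_injective _) (rfl : 0 + 1 = 1)
  obtain ⟨e, rfl⟩ := (Ext.mk₀_bijective _ _).2 e
  have hx' := (edge_delta adj hS A 0 (Ext.mk₀ e)).symm.trans hx
  rw [Ext.mk₀_comp_mk₀, edge_mk₀] at hx'
  obtain ⟨u, hu⟩ := Ext.covariant_sequence_exact₃ (L.obj A) hS _ (rfl : 0 + 1 = 1) hx'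
  obtain ⟨u, rfl⟩ := (Ext.mk₀_bijective _ _).2 u
  rw [Ext.mk₀_comp_mk₀] at hu
  have hu2 := (Ext.mk₀_bijective _ _).1 hu
  have hu3 : (adj.homEquiv A S.X₂ u) ≫ R.map S.g = e ≫ kap R S := by
    rw [← adj.homEquiv_naturality_right, hu2, Equiv.apply_symm_apply]
  have hu4 : (adj.homEquiv A S.X₂ u) ≫ cokernel.π (R.map S.f) = e := by
    have := mono_kap (R := R) hS
    rw [← cancel_mono (kap R S), Category.assoc, π_kap, hu3]
  rw [← hu4, ← Ext.mk₀_comp_mk₀, Ext.comp_assoc_of_second_deg_zero]
  have h0 : (Ext.mk₀ (cokernel.π (R.map S.f))).comp (shortExact_T (R := R) hS).extClass (zero_add 1) = 0 :=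
    (shortExact_T (R := R) hS).comp_extClass
  erw [h0]
  exact Ext.comp_zero (Ext.mk₀ (adj.homEquiv A S.X₂ u)) _ _ _ _

/-- `Ext²(A, R N) → Ext²(L A, N)` is injective if `R¹R (N) = 0`. -/
theorem edge_two_injective [EnoughInjectives D] (A : C) (N : D) (h : IsZero ((R.rightDerived 1).obj N)) :
    Function.Injective (edge adj A N 2) := by
  rw [injective_iff_map_eq_zero]
  intro x hx
  let I : InjectivePresentation N := Classical.arbitrary _
  let S := ShortComplex.mk _ _ (cokernel.condition I.f)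
  have hI : Injective S.X₂ := I.injective
  have hS : S.ShortExact := { exact := ShortComplex.exact_cokernel I.f }
  have hRI := injective_R adj S.X₂
  have hep : Epi (R.map S.g) := Groth.Agent.Etcore.DerLES.epi_map_g R hS h
  have hk : Epi (kap R S) := by
    have h1 : Epi (cokernel.π (R.map S.f) ≫ kap R S) := by
      rw [π_kap]
      exact hep
    exact epi_of_epi (cokernel.π (R.map S.f)) (kap R S)
  have hm : Mono (kap R S) := mono_kap (R := R) hS
  have hi : IsIso (kap R S) := isIso_of_mono_of_epi _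
  obtain ⟨e, rfl⟩ := Ext.covariant_sequence_exact₁ A (shortExact_T (R := R) hS) x
    (Ext.eq_zero_of_injective _) (rfl : 1 + 1 = 2)
  have hx' := (edge_delta adj hS A 1 e).symm.trans hx
  obtain ⟨u, hu⟩ := Ext.covariant_sequence_exact₃ (L.obj A) hS _ (rfl : 1 + 1 = 2) hx'
  have hu0 : u = 0 := Ext.eq_zero_of_injective u
  rw [hu0, Ext.zero_comp] at hu
  have h1 := edge_one_injective adj A S.X₃ (hu.symm.trans (map_zero _).symm)
  have h2 : e = (e.comp (Ext.mk₀ (kap R S)) (add_zero 1)).comp (Ext.mk₀ (inv (kap R S))) (add_zero 1) := by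
    rw [Ext.comp_assoc_of_third_deg_zero, Ext.mk₀_comp_mk₀, IsIso.hom_inv_id, Ext.comp_mk₀_id]
  rw [h2, h1, Ext.zero_comp, Ext.zero_comp]

end abstract

end Groth.Agent.Etbc.H238.EdgeInj

namespace Groth.Agent.Etbc.H238.EdgeInj

open AlgebraicGeometry Groth.Agent.EtpbcB.EdgeEt

variable {X Y : Scheme.{u}} (h : X ⟶ Y) [PreservesFiniteLimits (EtCoh.pull h)]

/-- `H²(Y, h_* N) → H²(X, N)` is injective if `R¹ h_* N = 0`. -/
theorem edgeH_two_injective (N : EtCoh.Ab X) (h1 : IsZero ((EtCoh.Rpush h 1).obj N)) :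
    Function.Injective (edgeH h N 2) := by
  have : PreservesFiniteLimits (EtCoh.push h) := by
    have := (EtCoh.pullPushAdj h).rightAdjoint_preservesLimits
    infer_instance
  rw [injective_iff_map_eq_zero]
  intro e he
  rw [edgeH_eq] at he
  have h2 := edge_two_injective (EtCoh.pullPushAdj h) (EtCoh.const Y ℤ) N h1
  apply h2
  rw [map_zero]
  apply (bij_aux h N 2).1
  change (Ext.mk₀ (EtCore.pullConst h ℤ).inv).comp _ (zero_add 2) =
    (Ext.mk₀ (EtCore.pullConst h ℤ).inv).comp 0 (zero_add 2)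
  rw [he, Ext.comp_zero]

end Groth.Agent.Etbc.H238.EdgeInj
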