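import Groth.Agent.Dix.GenUnits
import Groth.Agent.Dix.FlatMonoStalk
import Groth.Agent.Fdesc.FlatStalk

/-!
# Units of `U ×_X Spec O_{X,η}` near the points over `η`

`X` locally Noetherian, `U` étale over `X`.
* `exists_lift`: near a generic point `u` of `U`, every system of units of the `U ×_X Spec O_{X,η}`, `η` generic in
  `X`, comes from a unit on an open neighbourhood of `u`.
* `exists_zero`: if a section `s` of `G_m` over `U` dies on `U ×_X Spec O_{X,η}` then it dies near every point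
  of `U` over `η`.
-/

set_option autoImplicit false
universe u

open CategoryTheory CategoryTheory.Limits AlgebraicGeometry Opposite TopologicalSpace

namespace Groth.Agent.Etbc.H238.GenStk

open Groth.Agent.Dix.GmPush Groth.Agent.Dix.GenUnits

variable {X : Scheme.{u}}

/-- Points of `U ×_X Spec O_{X,η}` lie over generalizations of `η`. -/
theorem hom_proj_specializes (η : X) (U : X.Etale) (v : ((EtCoh.bc (X.fromSpecStalk η)).obj U).left) :
    U.hom (proj (X.fromSpecStalk η) U v) ⤳ η := by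
  rw [← Scheme.Hom.comp_apply]
  have h : proj (X.fromSpecStalk η) U ≫ U.hom =
      projY (X.fromSpecStalk η) U ≫ X.fromSpecStalk η := pullback.condition
  rw [h, Scheme.Hom.comp_apply]
  have := X.range_fromSpecStalk (x := η)
  have h2 : X.fromSpecStalk η (projY (X.fromSpecStalk η) U v) ∈ Set.range (X.fromSpecStalk η) :=
    ⟨_, rfl⟩
  rw [this] at h2
  exact h2

theorem hom_proj_apply (η : X) (hη : ∀ z, z ⤳ η → z = η) (U : X.Etale)
    (v : ((EtCoh.bc (X.fromSpecStalk η)).obj U).left) :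
    U.hom (proj (X.fromSpecStalk η) U v) = η :=
  hη _ (hom_proj_specializes η U v)

/-- Every point of `U` over `η` comes from `U ×_X Spec O_{X,η}`. -/
theorem exists_proj_eq (η : X) (U : X.Etale) (u : U.left) (h : U.hom u = η) :
    ∃ v : ((EtCoh.bc (X.fromSpecStalk η)).obj U).left, proj (X.fromSpecStalk η) U v = u := by
  have h2 : η ∈ Set.range (X.fromSpecStalk η) := by
    rw [X.range_fromSpecStalk]
    exact specializes_rfl
  obtain ⟨y, hy⟩ := h2
  obtain ⟨z, hz, -⟩ := Scheme.Pullback.exists_preimage_pullback (f := U.hom) (g := X.fromSpecStalk η)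
    u y (h.trans hy.symm)
  exact ⟨z, hz⟩

instance isPreimmersion_proj (η : X) (U : X.Etale) : IsPreimmersion (proj (X.fromSpecStalk η) U) :=
  MorphismProperty.pullback_fst (P := @IsPreimmersion) U.hom (X.fromSpecStalk η)
    (inferInstanceAs (IsPreimmersion (X.fromSpecStalk η)))

open Groth.Agent.CurvesA.MuConst in
/-- Near a generic point `u` of `U`, every system of units of the schemes `U ×_X Spec O_{X,η}`, `η` generic in `X`,
comes from a unit on an open neighbourhood of `u`. -/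
theorem exists_lift [IsLocallyNoetherian X] (U : X.Etale) (u : U.left) (hu : ∀ z, z ⤳ u → z = u)
    (k : ∀ η : X, EtCoh.sect ((EtCoh.push (X.fromSpecStalk η)).obj (EtCoh.Gm _)) U) :
    ∃ (V : X.Etale) (g : V ⟶ U) (v : V.left), IsOpenImmersion g.left ∧ g.left v = u ∧
      ∃ t : EtCoh.sect (EtCoh.Gm X) V, ∀ η : X, (∀ z, z ⤳ η → z = η) →
        (gmToPush (X.fromSpecStalk η)).hom.app (op V) t =
          ((EtCoh.push (X.fromSpecStalk η)).obj (EtCoh.Gm _)).obj.map g.op (k η) := by
  have : Etale U.hom := U.prop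
  have := isLocallyNoetherian_left U
  obtain ⟨V₀, huV₀, hV₀⟩ := Groth.Agent.Ega43.MaxPoints.exists_open_isMaxPt_specializes (X := U.left) u
  let η₀ : X := U.hom u
  obtain ⟨v, hv⟩ := exists_proj_eq η₀ U u rfl
  let a : Γ(((EtCoh.bc (X.fromSpecStalk η₀)).obj U).left, ⊤)ˣ :=
    unitOf (X := Spec (X.presheaf.stalk η₀)) (U := (EtCoh.bc (X.fromSpecStalk η₀)).obj U) (k η₀)
  obtain ⟨V, t, N, e, hVV₀, hvN, hvV, ht, hloc⟩ :=
    exists_local_unit (proj (X.fromSpecStalk η₀) U) v a a.isUnit V₀ (by rw [hv]; exact huV₀)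
  rw [hv] at hvV
  let V' : X.Etale := Scheme.Etale.mk (V.ι ≫ U.hom)
  let g : V' ⟶ U := MorphismProperty.Over.homMk V.ι rfl
  have htu : IsUnit (V.topIso.inv t) := ht.map V.topIso.inv.hom
  -- points of `V'_η` lie over `u`
  have key : ∀ η : X, (∀ z, z ⤳ η → z = η) →
      ∀ w : ((EtCoh.bc (X.fromSpecStalk η)).obj V').left,
        V.ι (proj (X.fromSpecStalk η) V' w) = u := by
    intro η hη w
    have h1 : V'.hom (proj (X.fromSpecStalk η) V' w) = η := hom_proj_apply η hη V' w
    have h2 : ∀ z, z ⤳ proj (X.fromSpecStalk η) V' w → z = proj (X.fromSpecStalk η) V' w :=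
      Groth.Agent.CurvesB.DimOneEtale.generic_of_generic' V'.hom (by rw [h1]; exact hη)
    have h3 : ∀ z, z ⤳ V.ι (proj (X.fromSpecStalk η) V' w) →
        z = V.ι (proj (X.fromSpecStalk η) V' w) :=
      Groth.Agent.CurvesB.DimOneEtale.generic_of_generic V.ι h2
    exact hu _ (hV₀ _ (hVV₀ (proj (X.fromSpecStalk η) V' w).2) h3)
  refine ⟨V', g, ⟨u, hvV⟩, inferInstanceAs (IsOpenImmersion V.ι), rfl, ofUnit (X := X) (U := V') htu.unit, ?_⟩
  intro η hη
  apply unitOf_injective (X := Spec (X.presheaf.stalk η)) (U := (EtCoh.bc (X.fromSpecStalk η)).obj V')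
  apply Units.ext
  let P' : Scheme.{u} := ((EtCoh.bc (X.fromSpecStalk η)).obj V').left
  by_cases hP' : IsEmpty P'
  · have : Subsingleton Γ(P', ⊤) := inferInstance
    exact Subsingleton.elim _ _
  rw [not_isEmpty_iff] at hP'
  obtain ⟨w⟩ := hP'
  have hη₀ : η₀ = η := by
    have h1 : V'.hom (proj (X.fromSpecStalk η) V' w) = η := hom_proj_apply η hη V' w
    have h2 : V'.hom (proj (X.fromSpecStalk η) V' w) = U.hom (V.ι (proj (X.fromSpecStalk η) V' w)) := rfl
    rw [h2, key η hη w] at h1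
    exact h1
  subst hη₀
  refine appTop_eq (proj (X.fromSpecStalk η₀) U) a V t N e hloc
    (proj (X.fromSpecStalk η₀) V') ((EtCoh.bc (X.fromSpecStalk η₀)).map g).left
    (bc_map_proj (X.fromSpecStalk η₀) g).symm ?_
  intro v'
  have h3 : ((EtCoh.bc (X.fromSpecStalk η₀)).map g).left v' = v := by
    apply (isPreimmersion_proj η₀ U).isEmbedding.injective
    refine Eq.trans ?_ ((key η₀ hη v').trans hv.symm)
    exact congr($(bc_map_proj (X.fromSpecStalk η₀) g) v')
  rw [h3]
  exact hvN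

instance flat_proj (η : X) (U : X.Etale) : Flat (proj (X.fromSpecStalk η) U) :=
  MorphismProperty.pullback_fst (P := @Flat) U.hom (X.fromSpecStalk η)
    (Groth.Agent.Fdesc.FlatStalk.flat_fromSpecStalk X η)

instance mono_proj (η : X) (U : X.Etale) : Mono (proj (X.fromSpecStalk η) U) := by
  have : Mono (X.fromSpecStalk η) := inferInstance
  exact inferInstanceAs (Mono (pullback.fst U.hom (X.fromSpecStalk η)))

theorem ι_appTop_eq {Y : Scheme.{u}} (V : Y.Opens) (i : V ⟶ ⊤) :
    V.ι.appTop = Y.presheaf.map i.op ≫ V.topIso.inv := by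
  rw [Scheme.Opens.ι_appTop, Scheme.Opens.topIso_inv]
  exact (congrArg Y.presheaf.map (Subsingleton.elim _ _)).trans (Y.presheaf.map_comp i.op _)

open Groth.Agent.CurvesA.MuConst in
/-- A section of `G_m` over `U` which dies on `U ×_X Spec O_{X,η}` dies near every point of `U` over `η`. -/
theorem exists_zero (U : X.Etale) (u : U.left) (s : EtCoh.sect (EtCoh.Gm X) U)
    (hs : (gmToPush (X.fromSpecStalk (U.hom u))).hom.app (op U) s = 0) :
    ∃ (V : X.Etale) (g : V ⟶ U), (∃ v : V.left, g.left v = u) ∧ (EtCoh.Gm X).obj.map g.op s = 0 := by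
  let η : X := U.hom u
  let p := proj (X.fromSpecStalk η) U
  obtain ⟨v, hv⟩ := exists_proj_eq η U u rfl
  have h1 : p.appTop (unitOf s : Γ(U.left, ⊤)) = 1 := by
    have := congrArg (fun k => ((unitOf (X := Spec (X.presheaf.stalk η))
      (U := (EtCoh.bc (X.fromSpecStalk η)).obj U) k : _ˣ) :
        Γ(((EtCoh.bc (X.fromSpecStalk η)).obj U).left, ⊤))) hs
    exact this
  have hiso := Groth.Agent.Dix.FlatMonoStalk.isIso_stalkMap_of_flat_of_mono p v
  have h2 : U.left.presheaf.germ ⊤ (p v) trivial (unitOf s : Γ(U.left, ⊤)) =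
      U.left.presheaf.germ ⊤ (p v) trivial 1 := by
    have hinj : Function.Injective (p.stalkMap v) := (ConcreteCategory.bijective_of_isIso (p.stalkMap v)).1
    apply hinj
    have e1 := p.germ_stalkMap_apply ⊤ v trivial (unitOf s : Γ(U.left, ⊤))
    have e2 := p.germ_stalkMap_apply ⊤ v trivial (1 : Γ(U.left, ⊤))
    refine e1.trans (Eq.trans ?_ e2.symm)
    refine congrArg (fun t => ((((EtCoh.bc (X.fromSpecStalk η)).obj U).left).presheaf.germ (p ⁻¹ᵁ ⊤) v trivial) t) ?_
    refine Eq.trans h1 ?_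
    exact (map_one (p.appTop).hom).symm
  obtain ⟨V, hvV, i₁, i₂, hV⟩ : ∃ (V : U.left.Opens) (_ : p v ∈ V) (i₁ : V ⟶ ⊤) (i₂ : V ⟶ ⊤),
      U.left.presheaf.map i₁.op (unitOf s : Γ(U.left, ⊤)) = U.left.presheaf.map i₂.op (1 : Γ(U.left, ⊤)) :=
    U.left.presheaf.germ_eq (U := ⊤) (V := ⊤) (p v) trivial trivial _ _ h2
  rw [hv] at hvV
  let V' : X.Etale := Scheme.Etale.mk (V.ι ≫ U.hom)
  let g : V' ⟶ U := MorphismProperty.Over.homMk V.ι rfl
  refine ⟨V', g, ⟨⟨u, hvV⟩, rfl⟩, ?_⟩
  apply unitOf_injective (X := X) (U := V')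
  apply Units.ext
  change V.ι.appTop (unitOf s : Γ(U.left, ⊤)) = 1
  have h3 : V.ι.appTop = U.left.presheaf.map i₁.op ≫ V.topIso.inv := ι_appTop_eq V i₁
  rw [h3]
  have h4 : V.topIso.inv (U.left.presheaf.map i₁.op (unitOf s : Γ(U.left, ⊤))) =
      V.topIso.inv (U.left.presheaf.map i₂.op 1) := congrArg _ hV
  refine h4.trans ?_
  rw [map_one, map_one]

end Groth.Agent.Etbc.H238.GenStk
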